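import Groth.Agent.RelVA16.Projective
import Groth.Agent.InvX.Tensor
import Groth.Agent.FittX.Sheaf
import Groth.Agent.PnCoh.Unit
import Groth.Agent.RelVA16.FTGen
import Groth.Agent.S5721
import Mathlib.AlgebraicGeometry.ProjectiveSpectrum.Proper
import Mathlib.AlgebraicGeometry.Morphisms.Finite

/-! Formal properties of projective morphisms. -/

set_option autoImplicit false
set_option backward.isDefEq.respectTransparency false
set_option backward.isDefEq.respectTransparency.types false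
set_option linter.style.haveILetI false

universe u

open CategoryTheory CategoryTheory.Limits AlgebraicGeometry TopologicalSpace Opposite
open scoped HomogeneousIdeal

noncomputable section

namespace Groth.Agent.ProjCl17

open Groth.Agent Groth.Agent.AModX Groth.Agent.SymAlgX Groth.Agent.RelVA16

variable {X Y Z : Scheme.{u}}

theorem str_finiteType {E : Y.Modules} (B : PB Y E) (hft : CohB1.IsFT E) {U : Y.Opens} (hU : IsAffineOpen U) :
    (B.𝒮.str.app (op U)).hom.FiniteType := by
  classical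
  obtain ⟨T, hT⟩ := ((QCoh.isFT_iff B.hE).1 hft ⟨U, hU⟩).fg_top
  let R := B.𝒮.presheaf.obj (op U)
  letI : Algebra Γ(Y, U) R := (B.𝒮.str.app (op U)).hom.toAlgebra
  let A : Subalgebra Γ(Y, U) R := Algebra.adjoin Γ(Y, U) (T.image (jv B.𝒮.toQCAlg B.j U) : Set R)
  refine ⟨⟨T.image (jv B.𝒮.toQCAlg B.j U), top_unique fun x _ => ?_⟩⟩
  have hjvA : ∀ e : Γ(E, U), jv B.𝒮.toQCAlg B.j U e ∈ A := fun e => by
    have he : e ∈ Submodule.span Γ(Y, U) (T : Set Γ(E, U)) := hT ▸ Submodule.mem_top
    induction he using Submodule.span_induction with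
    | mem t ht => exact Algebra.subset_adjoin (Finset.mem_coe.2 (Finset.mem_image_of_mem _ ht))
    | zero =>
      have h : jv B.𝒮.toQCAlg B.j U 0 = 0 := map_zero (B.j.app U).hom
      rw [h]; exact zero_mem A
    | add a b _ _ ha hb =>
      have h : jv B.𝒮.toQCAlg B.j U (a + b) = jv B.𝒮.toQCAlg B.j U a + jv B.𝒮.toQCAlg B.j U b :=
        map_add (B.j.app U).hom a b
      rw [h]; exact add_mem ha hb
    | smul c a _ ha =>
      have h : jv B.𝒮.toQCAlg B.j U (c • a) = algebraMap Γ(Y, U) R c * jv B.𝒮.toQCAlg B.j U a :=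
        Scheme.Modules.Hom.app_smul B.j c a
      rw [h]; exact mul_mem (A.algebraMap_mem c) ha
  have hx : x ∈ genAt B.𝒮.toQCAlg B.j U := by rw [genAt_eq_top B.hE B.hj.1 hU]; trivial
  refine (Subring.closure_le (t := A.toSubring)).2 ?_ hx
  rintro _ (⟨a, rfl⟩ | ⟨e, rfl⟩)
  · exact A.algebraMap_mem a
  · exact hjvA e

/-- The degree zero part of a symmetric algebra consists of the functions of the base. -/
theorem strZero_surjective {E : Y.Modules} (B : PB Y E) {U : Y.Opens} (hU : IsAffineOpen U) :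
    Function.Surjective (B.𝒮.strZero U hU).hom := by
  let ψ := GradedRing.projZeroRingHom' (B.𝒮.deg U hU)
  let A : Subring (B.𝒮.presheaf.obj (op U)) := (B.𝒮.strZero U hU).hom.range.comap ψ
  intro a
  have hx : (a : B.𝒮.presheaf.obj (op U)) ∈ genAt B.𝒮.toQCAlg B.j U := by
    rw [genAt_eq_top B.hE B.hj.1 hU]; trivial
  have hA : (a : B.𝒮.presheaf.obj (op U)) ∈ A := by
    refine (Subring.closure_le (t := A)).2 ?_ hx
    rintro _ (⟨r, rfl⟩ | ⟨e, rfl⟩)
    · exact ⟨r, Subtype.ext (DirectSum.decompose_of_mem_same _ (B.𝒮.str_mem U hU r)).symm⟩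
    · refine ⟨0, (map_zero _).trans (Subtype.ext ?_)⟩
      exact (DirectSum.decompose_of_mem_ne _ (B.jv_mem1 hU e) one_ne_zero).symm
  obtain ⟨r, hr⟩ := hA
  exact ⟨r, hr.trans (Subtype.ext (DirectSum.decompose_of_mem_same _ a.2))⟩

theorem isProper_p {E : Y.Modules} (B : PB Y E) (hft : CohB1.IsFT E) : IsProper B.p := by
  refine Proj16.of_affineOpens B.hP @IsProper fun U hU => ?_
  have hfin := str_finiteType B hft hU
  have : Algebra.FiniteType (B.𝒮.deg U hU 0) (B.𝒮.presheaf.obj (op U)) := by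
    have h1 : (algebraMap (B.𝒮.deg U hU 0) (B.𝒮.presheaf.obj (op U))).FiniteType :=
      RingHom.FiniteType.of_comp_finiteType (f := (B.𝒮.strZero U hU).hom) hfin
    exact RingHom.finiteType_algebraMap.1 h1
  haveI : IsClosedImmersion (Spec.map (B.𝒮.strZero U hU)) :=
    IsClosedImmersion.spec_of_surjective _ (strZero_surjective B hU)
  infer_instance

theorem isQuasiProjective_and_isProper {f : X ⟶ Y} (h : RelProj.IsProjective f) :
    RelProj.IsQuasiProjective f ∧ IsProper f := by
  obtain ⟨E, B, i, hft, hi, hf⟩ := exists_closedImmersion_pb_of_isProjective h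
  have := isProper_p B hft
  have : IsProper f := hf ▸ inferInstance
  have hL : PicF.IsInvertible ((Scheme.Modules.pullback i).obj B.O1) :=
    PicClLib.isInvertible_pullback i (RelTildeX.isInvertible_twist B.gen B.hO1)
  exact ⟨⟨inferInstance, inferInstance, _, S5721.result f _ hL (B.isRelVeryAmple _ i hf (Iso.refl _))⟩, this⟩

theorem isProjective_baseChange {X' Y' : Scheme.{u}} {f : X ⟶ Y} {g : Y' ⟶ Y} {g' : X' ⟶ X} {f' : X' ⟶ Y'}
    (hsq : IsPullback g' f' f g) (h : RelProj.IsProjective f) : RelProj.IsProjective f' := by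
  obtain ⟨E, B, i, hft, hi, hf⟩ := exists_closedImmersion_pb_of_isProjective h
  obtain ⟨B'⟩ := PB.exists_of_isQCoh (QCoh.isQCoh_pullback g B.hE)
  obtain ⟨h', hpb, -⟩ := B.exists_baseChange g B'
  let i' : X' ⟶ B'.P := hpb.lift (g' ≫ i) f' (by rw [Category.assoc, hf]; exact hsq.w)
  have h1 : i' ≫ h' = g' ≫ i := hpb.lift_fst _ _ _
  have h2 : i' ≫ B'.p = f' := hpb.lift_snd _ _ _
  have hs : IsPullback g' (i' ≫ B'.p) (i ≫ B.p) g := by rw [h2, hf]; exact hsq
  have : IsClosedImmersion i' :=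
    MorphismProperty.of_isPullback (P := @IsClosedImmersion) (IsPullback.of_bot hs h1.symm hpb) hi
  exact isProjective_of_closedImmersion_pb B' (FittX.isFT_pullback g B.hE hft) i' h2

theorem isProjective_of_comp (f : X ⟶ Y) (g : Y ⟶ Z) [IsSeparated g] (h : RelProj.IsProjective (f ≫ g)) :
    RelProj.IsProjective f := by
  obtain ⟨E, B, i, hft, hi, hf⟩ := exists_closedImmersion_pb_of_isProjective h
  obtain ⟨B'⟩ := PB.exists_of_isQCoh (QCoh.isQCoh_pullback g B.hE)
  obtain ⟨h', hpb, -⟩ := B.exists_baseChange g B'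
  let i' : X ⟶ B'.P := hpb.lift i f hf
  have h1 : i' ≫ h' = i := hpb.lift_fst _ _ _
  have : IsSeparated h' := MorphismProperty.of_isPullback (P := @IsSeparated) hpb.flip inferInstance
  have : IsClosedImmersion (i' ≫ h') := by rw [h1]; exact hi
  have : IsClosedImmersion i' := IsClosedImmersion.of_comp i' h'
  exact isProjective_of_closedImmersion_pb B' (FittX.isFT_pullback g B.hE hft) i' (hpb.lift_snd _ _ _)

theorem isProjective_comp_closedImmersion_left {X₀ : Scheme.{u}} (j : X₀ ⟶ X) [IsClosedImmersion j] {f : X ⟶ Y}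
    (h : RelProj.IsProjective f) : RelProj.IsProjective (j ≫ f) := by
  obtain ⟨E, B, i, hft, hi, hf⟩ := exists_closedImmersion_pb_of_isProjective h
  exact isProjective_of_closedImmersion_pb B hft (j ≫ i) (by rw [Category.assoc, hf])

theorem isProjective_of_isFinite (f : X ⟶ Y) [IsFinite f] : RelProj.IsProjective f := by
  let O := Coh.structureModule X
  let E := (Scheme.Modules.pushforward f).obj O
  have hE : Coh.IsQCoh E := QCoh.isQCoh_pushforward f (PnCoh.isQCoh_structureModule X)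
  have hft : CohB1.IsFT E := by
    refine QCoh.isFT_of_finite hE (fun U : Y.affineOpens => U.1) (iSup_affineOpens_eq_top Y) (fun U => U.2) fun U => ?_
    exact f.finite_app U.1 U.2
  obtain ⟨B⟩ := PB.exists_of_isQCoh hE
  let one : ∀ U : Y.Opens, Γ(E, U) := fun U => (1 : Γ(X, f ⁻¹ᵁ U))
  have hone : ∀ U : Y.Opens, InvX.IsFrame (thv (q := f) (L := O) (𝟙 E) (le_refl (f ⁻¹ᵁ U)) (one U)) := fun U => by
    rw [show thv (q := f) (L := O) (𝟙 E) (le_refl (f ⁻¹ᵁ U)) (one U) =
      (show Γ(O, f ⁻¹ᵁ U) from (1 : Γ(X, f ⁻¹ᵁ U))) from res_self _]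
    exact InvX.isFrame_one _
  have hgen : Gen (q := f) (L := O) (𝟙 E) := fun x => by
    obtain ⟨U, hU, hxU, -⟩ := exists_isAffineOpen_mem_and_subset (X := Y) (x := f x) (U := ⊤) trivial
    exact ⟨U, hU, one U, f ⁻¹ᵁ U, le_rfl, hxU, hone U⟩
  obtain ⟨r, hr⟩ := exists_isMapOf B _ hgen
  have hpre : ∀ (U : Y.Opens) (hU : IsAffineOpen U), r ⁻¹ᵁ B.D hU (one U) = f ⁻¹ᵁ U := fun U hU => by
    refine le_antisymm (fun x hx => ?_) (hr.mem U hU _ _ le_rfl (hone U))
    show f x ∈ U
    rw [← hr.comp, Scheme.Hom.comp_apply]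
    exact B.D_le hU _ hx
  have : IsImmersion r := by
    refine isImmersion_of_immersion_on r (fun U : Y.affineOpens => B.D U.2 (one U.1)) (fun x => ?_) fun ⟨U, hU⟩ => ?_
    · obtain ⟨U, hU, hxU, -⟩ := exists_isAffineOpen_mem_and_subset (X := Y) (x := f x) (U := ⊤) trivial
      exact ⟨⟨U, hU⟩, (hpre U hU).ge hxU⟩
    · show IsImmersion (r ∣_ B.D hU (one U))
      have := isClosedImmersion_restrict_of_surjective r (B.isAffineOpen_D hU (one U)) (hU.preimage f) (hpre U hU)
        fun b => ⟨B.ratio hU b (one U), ?_⟩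
      · infer_instance
      have h := hr.coord U hU b (one U) (f ⁻¹ᵁ U) le_rfl (hpre U hU).ge
      rw [show thv (q := f) (L := O) (𝟙 E) (le_refl (f ⁻¹ᵁ U)) b = (show Γ(O, f ⁻¹ᵁ U) from b) from res_self _,
        show thv (q := f) (L := O) (𝟙 E) (le_refl (f ⁻¹ᵁ U)) (one U) =
          (show Γ(O, f ⁻¹ᵁ U) from (1 : Γ(X, f ⁻¹ᵁ U))) from res_self _] at h
      exact (mul_one _).symm.trans h.symm
  have := isClosedImmersion_of_isProper B r hr.comp
  exact isProjective_of_closedImmersion_pb B hft r hr.comp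

end Groth.Agent.ProjCl17
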