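import Groth.Agent.ProjCl17.Basic
import Groth.Agent.RelVA16.PnBridge
import Groth.Agent.ProjAmple17.Basic
import Groth.Agent.H28.KRRReg

/-! H-projective morphisms are projective. -/

set_option autoImplicit false
set_option backward.isDefEq.respectTransparency false
set_option backward.isDefEq.respectTransparency.types false
set_option linter.style.haveILetI false

universe u

open CategoryTheory CategoryTheory.Limits AlgebraicGeometry TopologicalSpace

namespace Groth.Agent.ProjCl17

open Groth.Agent

theorem isProjective_toBase (n : ℕ) (S : Scheme.{u}) : RelProj.IsProjective (CohB1.ProjSpaceOver.toBase n S) := by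
  let T : Scheme.{u} := Spec (.of (ULift.{u} ℤ))
  let q := CohB1.ProjSpace.toSpec n (ULift.{u} ℤ)
  haveI : IsProper q := PnCoh.Chow.isProper_toSpec n _
  let i : CohB1.ProjSpace n (ULift.{u} ℤ) ⟶ CohB1.ProjSpaceOver n T :=
    pullback.lift (𝟙 _) q (specULiftZIsTerminal.hom_ext _ _)
  haveI : Mono (specULiftZIsTerminal.from T) :=
    ⟨fun a b _ => specULiftZIsTerminal.hom_ext a b⟩
  haveI : IsIso (pullback.fst q (specULiftZIsTerminal.from T)) := by
    haveI : IsIso (specULiftZIsTerminal.from T) :=
      ⟨specULiftZIsTerminal.from T, specULiftZIsTerminal.hom_ext _ _, specULiftZIsTerminal.hom_ext _ _⟩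
    infer_instance
  haveI : IsIso (i ≫ pullback.fst q (specULiftZIsTerminal.from T)) := by
    rw [pullback.lift_fst]; infer_instance
  haveI : IsIso i := IsIso.of_isIso_comp_right i (pullback.fst q (specULiftZIsTerminal.from T))
  have hq : RelProj.IsProjective q := by
    haveI : CompactSpace T := inferInstance
    exact RelVA16.isProjective_of_isProper_of_va (Or.inl ⟨inferInstance, inferInstance⟩)
      (RelVA16.isRelVeryAmple_of_pn
        (PicClLib.isInvertible_pullback i (H28.KRRReg.isInvertible_twistOver 1))
        ⟨n, i, inferInstance, pullback.lift_snd _ _ _, ⟨Iso.refl _⟩⟩)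
  exact isProjective_baseChange (IsPullback.of_hasPullback q (specULiftZIsTerminal.from S)) hq

theorem isProjective_of_isHProjective {X S : Scheme.{u}} {f : X ⟶ S} (hf : RelProj.IsHProjective f) :
    RelProj.IsProjective f := by
  obtain ⟨n, i, hi, rfl⟩ := hf
  haveI := hi
  exact isProjective_comp_closedImmersion_left i (isProjective_toBase n S)

theorem isHProjective_of_isProjective_of_isAffine {X S : Scheme.{u}} [IsAffine S] {f : X ⟶ S}
    (hf : RelProj.IsProjective f) : RelProj.IsHProjective f := by
  obtain ⟨⟨h1, h2, L, hL⟩, hp⟩ := isQuasiProjective_and_isProper hf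
  have hA : CohB1.IsAmple L := by
    haveI := hp
    exact (AmpleX.isRelAmple_iff_isAmple f L).1 hL
  obtain ⟨n, i, hi, -, hc⟩ := ProjAmple17.exists_immersion_of_isAmple f hA
  haveI : IsProper (CohB1.ProjSpaceOver.toBase n S) :=
    MorphismProperty.pullback_snd _ _ (PnCoh.Chow.isProper_toSpec n _)
  haveI : IsProper (i ≫ CohB1.ProjSpaceOver.toBase n S) := by rw [hc]; exact hp
  haveI : IsProper i := IsProper.of_comp i (CohB1.ProjSpaceOver.toBase n S)
  exact ⟨n, i, IsClosedImmersion.of_isPreimmersion _ i.isClosedMap.isClosed_range, hc⟩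

end Groth.Agent.ProjCl17
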