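import Groth.Agent.ProjCl17.Basic
import Groth.Agent.RelVA16.PnBridge
import Groth.Agent.RelVA16.Qcqs

/-! Very ample sheaves over an affine base come from projective space. -/

set_option autoImplicit false
set_option backward.isDefEq.respectTransparency false
set_option backward.isDefEq.respectTransparency.types false
set_option linter.style.haveILetI false

universe u

open CategoryTheory CategoryTheory.Limits AlgebraicGeometry TopologicalSpace Opposite

noncomputable section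

namespace Groth.Agent.ProjCl17

open Groth.Agent Groth.Agent.AModX Groth.Agent.RelVA16 Groth.Agent.SymAlgX Groth.Agent.H23

variable {X S : Scheme.{u}}

/-- The chart ring of `P(E)` is generated by the base and the ratios of generators. -/
theorem eq_top_of_base_ratio {E : S.Modules} (B : PB S E) {U : S.Opens} (hU : IsAffineOpen U) (e₀ : Γ(E, U))
    {m : ℕ} (e : Fin m → Γ(E, U)) (he : Submodule.span Γ(S, U) (Set.range e) = ⊤) (R : Subring Γ(B.P, B.D hU e₀))
    (hb : ∀ r, B.base hU e₀ r ∈ R) (hr : ∀ l, B.ratio hU (e l) e₀ ∈ R) : R = ⊤ := by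
  have hall : ∀ a : Γ(E, U), B.ratio hU a e₀ ∈ R := fun a => by
    have ha : a ∈ Submodule.span Γ(S, U) (Set.range e) := by rw [he]; trivial
    induction ha using Submodule.span_induction with
    | mem t ht => obtain ⟨l, rfl⟩ := ht; exact hr l
    | zero =>
      have h0 : B.ratio hU (0 : Γ(E, U)) e₀ = 0 := by
        have := B.ratio_add hU (0 : Γ(E, U)) 0 e₀
        rwa [add_zero, left_eq_add] at this
      rw [h0]; exact zero_mem R
    | add a b _ _ ha hb' => rw [B.ratio_add]; exact add_mem ha hb'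
    | smul c a _ ha => rw [B.ratio_smul]; exact mul_mem (hb c) ha
  refine top_unique fun z _ => ?_
  obtain ⟨x, rfl⟩ := B.deh_surjective hU e₀ z
  have hx : x ∈ genAt B.𝒮.toQCAlg B.j U := by rw [genAt_eq_top B.hE B.hj.1 hU]; trivial
  refine (Subring.closure_le (t := R.comap (B.deh hU e₀))).2 ?_ hx
  rintro _ (⟨a, rfl⟩ | ⟨a, rfl⟩)
  · show B.deh hU e₀ _ ∈ R
    rw [B.deh_str]; exact hb a
  · show B.deh hU e₀ _ ∈ R
    rw [B.deh_jv]; exact hall a

theorem isRelVeryAmplePn_of_isRelVeryAmple [IsAffine S] (f : X ⟶ S) [LocallyOfFiniteType f] [QuasiCompact f]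
    {L : X.Modules} (hL : PicF.IsInvertible L) (hva : RelProj.IsRelVeryAmple f L) :
    RelAmple.IsRelVeryAmplePn f L := by
  classical
  obtain ⟨E, B, r, hft, hr', hrp, ⟨ε⟩⟩ :=
    exists_ft_pb_of_isRelVeryAmple (Or.inl ⟨inferInstance, inferInstance⟩) hva
  haveI := hr'
  let θ := thetaOf hrp ε.inv
  have hr : IsMapOf B θ r := isMapOf_thetaOf hrp ε.symm
  have hS := isAffineOpen_top S
  have htop : (⊤ : X.Opens) ≤ f ⁻¹ᵁ (⊤ : S.Opens) := fun _ _ => trivial
  obtain ⟨n, e, he⟩ : ∃ (n : ℕ) (e : Fin (n + 1) → Γ(E, ⊤)), Submodule.span Γ(S, ⊤) (Set.range e) = ⊤ := by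
    obtain ⟨T, hT⟩ := ((QCoh.isFT_iff B.hE).1 hft ⟨⊤, hS⟩).fg_top
    let c : Fin T.card ≃ T := T.equivFin.symm
    refine ⟨T.card, Fin.cons 0 fun i => (c i : Γ(E, ⊤)), top_unique ?_⟩
    rw [← hT]
    refine Submodule.span_mono fun t ht => ⟨(c.symm ⟨t, ht⟩).succ, ?_⟩
    rw [Fin.cons_succ, Equiv.apply_symm_apply]
  let s : Fin (n + 1) → Γ(L, ⊤) := fun k => thv θ htop (e k)
  have hsres : ∀ (k : Fin (n + 1)) (W : X.Opens), res L (le_top : W ≤ ⊤) (s k) = thv θ (show W ≤ f ⁻¹ᵁ (⊤ : S.Opens) from fun _ _ => trivial) (e k) :=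
    fun k W => thv_res θ htop le_top (e k)
  have hgen : ProjUP.GeneratedBy L s := fun x => by
    obtain ⟨e', he'⟩ := B.exists_mem_D hS (x := r x) trivial
    let W := r ⁻¹ᵁ B.D hS e'
    have hW : W ≤ f ⁻¹ᵁ (⊤ : S.Opens) := fun _ _ => trivial
    have hfr : InvX.IsFrame (thv θ hW e') := hr.frame ⊤ hS e' W hW le_rfl
    let P := Submodule.span (X.presheaf.stalk x) (Set.range fun i => (L.presheaf.germ ⊤ x trivial).hom (s i))
    have hmem : ∀ a : Γ(E, ⊤), (L.presheaf.germ W x he').hom (thv θ hW a) ∈ P := fun a => by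
      have ha : a ∈ Submodule.span Γ(S, ⊤) (Set.range e) := by rw [he]; trivial
      induction ha using Submodule.span_induction with
      | mem t ht =>
        obtain ⟨l, rfl⟩ := ht
        refine Submodule.subset_span ⟨l, ?_⟩
        show _ = (L.presheaf.germ W x he').hom (thv θ hW (e l))
        rw [← thv_res θ htop (le_top : W ≤ ⊤)]
        exact (InvX.germ_res' (le_top : W ≤ ⊤) he' (s l)).symm
      | zero =>
        have h0 : thv θ hW (0 : Γ(E, ⊤)) = 0 :=
          (congrArg (res L hW) (map_zero (θ.app ⊤).hom)).trans (map_zero (res L hW))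
        rw [h0, map_zero]; exact zero_mem P
      | add a b _ _ ha hb => rw [thv_add, map_add]; exact add_mem ha hb
      | smul c a _ ha => rw [thv_smul, QCoh.germ_smul']; exact P.smul_mem _ ha
    refine eq_top_iff.2 fun z _ => ?_
    obtain ⟨c, hc⟩ := (hfr.germ_bijective he').2 z
    rw [← hc]
    exact P.smul_mem c (hmem e')
  obtain ⟨g, -, τ, hτ⟩ := S3572.result n (specULiftZIsTerminal.from X) L hL s hgen
  let fst : CohB1.ProjSpaceOver n S ⟶ CohB1.ProjSpace n (ULift.{u} ℤ) :=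
    pullback.fst (CohB1.ProjSpace.toSpec n (ULift.{u} ℤ)) (specULiftZIsTerminal.from S)
  let i : X ⟶ CohB1.ProjSpaceOver n S := pullback.lift g f (specULiftZIsTerminal.hom_ext _ _)
  have hifst : i ≫ fst = g := pullback.lift_fst _ _ _
  refine ⟨n, i, ?_, pullback.lift_snd _ _ _, ⟨?_⟩⟩
  swap
  · exact τ.symm ≪≫ (Scheme.Modules.pullbackCongr hifst.symm).app _ ≪≫
      ((Scheme.Modules.pullbackComp i fst).app _).symm
  let V : Fin (n + 1) → (CohB1.ProjSpace n (ULift.{u} ℤ)).Opens := fun k =>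
    Proj.basicOpen (CohB1.polyGrading n (ULift.{u} ℤ)) (MvPolynomial.X k)
  have hpre : ∀ k, g ⁻¹ᵁ V k = r ⁻¹ᵁ B.D hS (e k) := fun k => by
    rw [show g ⁻¹ᵁ V k = TrivBasic.locus (s k) from AmpleEmbed.preimage_chart g τ k (hτ k)]
    refine le_antisymm (hr.mem ⊤ hS (e k) _ (show TrivBasic.locus (s k) ≤ f ⁻¹ᵁ (⊤ : S.Opens) from fun _ _ => trivial) ?_) (TrivBasic.le_locus ?_)
    · rw [← hsres]; exact TrivBasic.isFrame_res_of_le_locus le_rfl
    · rw [hsres]; exact hr.frame ⊤ hS (e k) _ _ le_rfl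
  refine isImmersion_of_immersion_on i (fun a : ULift.{u} (Fin (n + 1)) => fst ⁻¹ᵁ V a.down) (fun x => ?_) fun ⟨k⟩ => ?_
  · obtain ⟨k, hk⟩ := Opens.mem_iSup.1 ((AmpleEmbed.iSup_basicOpen_X n (ULift.{u} ℤ)).ge (Set.mem_univ (g x)))
    refine ⟨⟨k⟩, ?_⟩
    show fst (i x) ∈ V k
    rw [← Scheme.Hom.comp_apply, hifst]
    exact hk
  show IsImmersion (i ∣_ (fst ⁻¹ᵁ V k))
  let D := B.D hS (e k)
  let W' := r ⁻¹ᵁ D
  have hWq : W' ≤ f ⁻¹ᵁ (⊤ : S.Opens) := fun _ _ => trivial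
  have hWi : i ⁻¹ᵁ (fst ⁻¹ᵁ V k) = W' := by
    rw [← Scheme.Hom.comp_preimage, hifst]; exact hpre k
  have hWV : W' ≤ g ⁻¹ᵁ V k := (hpre k).ge
  let v : Fin (n + 1) → Γ(B.P, D) := fun l => B.ratio hS (e l) (e k)
  let φ : MvPolynomial (Fin (n + 1)) (ULift.{u} ℤ) →+* Γ(B.P, D) :=
    MvPolynomial.eval₂Hom ((Int.castRingHom Γ(B.P, D)).comp ULift.ringEquiv.toRingHom) v
  have hfk : φ (MvPolynomial.X k) = 1 := (MvPolynomial.eval₂Hom_X' _ _ _).trans (B.ratio_self hS _)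
  have hu : IsUnit (φ (MvPolynomial.X k)) := hfk ▸ isUnit_one
  haveI : IsIso (Proj.awayToSection (CohB1.polyGrading n (ULift.{u} ℤ)) (MvPolynomial.X k)) :=
    (Proj.basicOpenIsoAway (CohB1.polyGrading n (ULift.{u} ℤ)) _ (ProjPt.X_mem k) one_pos).isIso_hom
  let α : Γ(CohB1.ProjSpace n (ULift.{u} ℤ), V k) ⟶ Γ(B.P, D) :=
    inv (Proj.awayToSection (CohB1.polyGrading n (ULift.{u} ℤ)) (MvPolynomial.X k)) ≫
      CommRingCat.ofHom (ProjPt.coordHom (CohB1.polyGrading n (ULift.{u} ℤ)) φ hu)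
  have key : α ≫ r.appLE D W' le_rfl = g.appLE (V k) W' hWV := by
    rw [← cancel_epi (Proj.awayToSection (CohB1.polyGrading n (ULift.{u} ℤ)) (MvPolynomial.X k)),
      ← Category.assoc, IsIso.hom_inv_id_assoc]
    refine CommRingCat.hom_ext (ProjPt.away_ext k _ _ (RelVA16.subsingleton_uliftInt_hom _ _) fun l => ?_)
    show (r.appLE D W' le_rfl).hom (ProjPt.coordHom _ φ hu (ProjPt.crd k l)) =
      ProjUPX.ratioOf g (ProjPt.X_mem l) (ProjPt.X_mem k) hWV
    rw [ProjPt.coordHom_crd φ k hu hfk]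
    refine (AmpleEmbed.ratioOf_eq g τ k l (hτ k) (hτ l) hWV _ ?_).symm
    rw [MvPolynomial.eval₂Hom_X']
    have := hr.coord ⊤ hS (e l) (e k) W' hWq le_rfl
    rwa [← hsres, ← hsres] at this
  have hαv : ∀ l, v l ∈ Set.range α := fun l =>
    ⟨(Proj.awayToSection (CohB1.polyGrading n (ULift.{u} ℤ)) (MvPolynomial.X k)).hom (ProjPt.crd k l), by
      show (Proj.awayToSection (CohB1.polyGrading n (ULift.{u} ℤ)) (MvPolynomial.X k) ≫ α).hom (ProjPt.crd k l) = _
      rw [IsIso.hom_inv_id_assoc]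
      show ProjPt.coordHom _ φ hu (ProjPt.crd k l) = _
      rw [ProjPt.coordHom_crd φ k hu hfk, MvPolynomial.eval₂Hom_X']⟩
  have hV : IsAffineOpen (V k) := Proj.isAffineOpen_basicOpen _ _ (ProjPt.X_mem k) one_pos
  let β : Γ(S, ⊤) ⟶ Γ(B.P, D) := B.p.appLE ⊤ D (B.D_le hS _)
  let A₁ := Spec Γ(CohB1.ProjSpace n (ULift.{u} ℤ), V k)
  let A₂ := Spec Γ(S, ⊤)
  let κ₀ : Spec Γ(B.P, D) ⟶ pullback (specULiftZIsTerminal.from A₁) (specULiftZIsTerminal.from A₂) :=
    pullback.lift (Spec.map α) (Spec.map β) (specULiftZIsTerminal.hom_ext _ _)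
  haveI : IsClosedImmersion κ₀ := by
    refine IsClosedImmersion.of_surjective_of_isAffine κ₀ fun z => ?_
    let ι := Scheme.ΓSpecIso Γ(B.P, D)
    let R : Subring Γ(B.P, D) := (κ₀.appTop ≫ ι.hom).hom.range
    have h1 : ∀ a, α a ∈ R := fun a => by
      refine ⟨(pullback.fst (specULiftZIsTerminal.from A₁) (specULiftZIsTerminal.from A₂)).appTop
        ((Scheme.ΓSpecIso Γ(CohB1.ProjSpace n (ULift.{u} ℤ), V k)).inv a), ?_⟩
      show ι.hom (κ₀.appTop _) = _
      rw [← CommRingCat.comp_apply _ κ₀.appTop, ← Scheme.Hom.comp_appTop, pullback.lift_fst,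
        ← CommRingCat.comp_apply _ (Spec.map α).appTop, ← CommRingCat.comp_apply _ ι.hom,
        Category.assoc, Scheme.ΓSpecIso_naturality, Iso.inv_hom_id_assoc]
    have h2 : ∀ a, β a ∈ R := fun a => by
      refine ⟨(pullback.snd (specULiftZIsTerminal.from A₁) (specULiftZIsTerminal.from A₂)).appTop
        ((Scheme.ΓSpecIso Γ(S, ⊤)).inv a), ?_⟩
      show ι.hom (κ₀.appTop _) = _
      rw [← CommRingCat.comp_apply _ κ₀.appTop, ← Scheme.Hom.comp_appTop, pullback.lift_snd,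
        ← CommRingCat.comp_apply _ (Spec.map β).appTop, ← CommRingCat.comp_apply _ ι.hom,
        Category.assoc, Scheme.ΓSpecIso_naturality, Iso.inv_hom_id_assoc]
    have htop' : R = ⊤ := eq_top_of_base_ratio B hS (e k) e he R h2 fun l => by
      obtain ⟨a, ha⟩ := hαv l
      show v l ∈ R
      rw [← ha]
      exact h1 a
    obtain ⟨a, ha⟩ : ι.hom z ∈ R := htop' ▸ trivial
    exact ⟨a, (ConcreteCategory.bijective_of_isIso ι.hom).1 ha⟩
  let μ : pullback (specULiftZIsTerminal.from A₁) (specULiftZIsTerminal.from A₂) ⟶ CohB1.ProjSpaceOver n S :=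
    pullback.map _ _ _ _ hV.fromSpec hS.fromSpec (𝟙 _) (specULiftZIsTerminal.hom_ext _ _)
      (specULiftZIsTerminal.hom_ext _ _)
  haveI : IsImmersion μ :=
    MorphismProperty.pullbackMap (P := @IsImmersion) (i₁ := hV.fromSpec) (i₂ := hS.fromSpec)
      inferInstance inferInstance (e₁ := specULiftZIsTerminal.hom_ext _ _) (e₂ := specULiftZIsTerminal.hom_ext _ _)
  have hD : IsAffineOpen D := B.isAffineOpen_D hS _
  haveI : IsAffine D.toScheme := hD
  haveI : IsIso D.toSpecΓ := by rw [← hD.isoSpec_hom]; infer_instance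
  haveI : IsImmersion (r ∣_ D) := MorphismProperty.of_isPullback (P := @IsImmersion)
    (isPullback_morphismRestrict r D).flip hr'
  have h2 : (r ∣_ D) ≫ D.toSpecΓ ≫ κ₀ ≫ μ = W'.ι ≫ i := by
    rw [← Scheme.Hom.resLE_eq_morphismRestrict]
    refine pullback.hom_ext ?_ ?_
    · simp only [κ₀, μ, Category.assoc, pullback.lift_fst, pullback.lift_fst_assoc]
      rw [← Scheme.Opens.toSpecΓ_SpecMap_appLE_assoc, ← Spec.map_comp_assoc, key]
      refine Eq.trans ?_ (congrArg (W'.ι ≫ ·) hifst.symm)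
      exact (ι_comp_eq g hV hWV).symm
    · simp only [κ₀, μ, Category.assoc, pullback.lift_snd, pullback.lift_snd_assoc, β]
      rw [IsAffineOpen.SpecMap_appLE_fromSpec B.p hS hD, hD.toSpecΓ_fromSpec_assoc, Scheme.Hom.resLE_comp_ι_assoc,
        hrp]
      exact congrArg (W'.ι ≫ ·) (pullback.lift_snd _ _ _).symm
  haveI : IsImmersion ((i ⁻¹ᵁ (fst ⁻¹ᵁ V k)).ι ≫ i) := by
    rw [hWi, ← h2]
    infer_instance
  haveI : IsImmersion ((i ∣_ (fst ⁻¹ᵁ V k)) ≫ (fst ⁻¹ᵁ V k).ι) := by rw [morphismRestrict_ι]; infer_instance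
  exact IsImmersion.of_comp _ (fst ⁻¹ᵁ V k).ι

end Groth.Agent.ProjCl17
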