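import Groth.Agent.ProjCl17.Basic
import Groth.Agent.RelVA16.SegrePair
import Groth.Agent.S2297

/-! Products of projective morphisms. -/

set_option autoImplicit false
set_option backward.isDefEq.respectTransparency false
set_option backward.isDefEq.respectTransparency.types false
set_option linter.style.haveILetI false

universe u

open CategoryTheory CategoryTheory.Limits AlgebraicGeometry TopologicalSpace

noncomputable section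

namespace Groth.Agent.ProjCl17

open Groth.Agent

theorem isProjective_prod {S X₁ X₂ Y₁ Y₂ P Q : Scheme.{u}} (y₁ : Y₁ ⟶ S) (y₂ : Y₂ ⟶ S)
    (f₁ : X₁ ⟶ Y₁) (f₂ : X₂ ⟶ Y₂) (p₁ : P ⟶ X₁) (p₂ : P ⟶ X₂) (hP : IsPullback p₁ p₂ (f₁ ≫ y₁) (f₂ ≫ y₂))
    (q₁ : Q ⟶ Y₁) (q₂ : Q ⟶ Y₂) (hQ : IsPullback q₁ q₂ y₁ y₂) (h : P ⟶ Q)
    (hh₁ : h ≫ q₁ = p₁ ≫ f₁) (hh₂ : h ≫ q₂ = p₂ ≫ f₂) [IsProper h]
    (hf₁ : RelProj.IsProjective f₁) (hf₂ : RelProj.IsProjective f₂) : RelProj.IsProjective h := by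
  obtain ⟨E₁, B₁, i₁, hft₁, hi₁', hif₁⟩ := RelVA16.exists_closedImmersion_pb_of_isProjective hf₁
  obtain ⟨E₂, B₂, i₂, hft₂, hi₂', hif₂⟩ := RelVA16.exists_closedImmersion_pb_of_isProjective hf₂
  have hi₁ : IsImmersion i₁ := inferInstance
  have hi₂ : IsImmersion i₂ := inferInstance
  obtain ⟨C₁⟩ := RelVA16.PB.exists_of_isQCoh (QCoh.isQCoh_pullback q₁ B₁.hE)
  obtain ⟨C₂⟩ := RelVA16.PB.exists_of_isQCoh (QCoh.isQCoh_pullback q₂ B₂.hE)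
  obtain ⟨m₁, hpb₁, ⟨o₁⟩⟩ := B₁.exists_baseChange q₁ C₁
  obtain ⟨m₂, hpb₂, ⟨o₂⟩⟩ := B₂.exists_baseChange q₂ C₂
  let r₁ : P ⟶ C₁.P := hpb₁.lift (p₁ ≫ i₁) h (by rw [Category.assoc, hif₁, hh₁])
  let r₂ : P ⟶ C₂.P := hpb₂.lift (p₂ ≫ i₂) h (by rw [Category.assoc, hif₂, hh₂])
  have hr₁ : r₁ ≫ C₁.p = h := hpb₁.lift_snd _ _ _
  have hr₂ : r₂ ≫ C₂.p = h := hpb₂.lift_snd _ _ _
  have hm₁ : r₁ ≫ m₁ = p₁ ≫ i₁ := hpb₁.lift_fst _ _ _
  have hm₂ : r₂ ≫ m₂ = p₂ ≫ i₂ := hpb₂.lift_fst _ _ _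
  haveI : IsImmersion (pullback.lift r₁ r₂ (hr₁.trans hr₂.symm) : P ⟶ pullback C₁.p C₂.p) := by
    let μ : pullback (f₁ ≫ y₁) (f₂ ≫ y₂) ⟶ pullback (B₁.p ≫ y₁) (B₂.p ≫ y₂) :=
      pullback.map _ _ _ _ i₁ i₂ (𝟙 _) (by rw [Category.comp_id, ← Category.assoc, hif₁])
        (by rw [Category.comp_id, ← Category.assoc, hif₂])
    haveI : IsImmersion μ :=
      MorphismProperty.pullbackMap (P := @IsImmersion) (i₁ := i₁) (i₂ := i₂) hi₁ hi₂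
        (e₁ := (by rw [← Category.assoc, hif₁])) (e₂ := (by rw [← Category.assoc, hif₂]))
    let ν : pullback C₁.p C₂.p ⟶ pullback (B₁.p ≫ y₁) (B₂.p ≫ y₂) :=
      pullback.map _ _ _ _ m₁ m₂ (q₁ ≫ y₁) (by rw [← Category.assoc, ← Category.assoc, ← hpb₁.w])
        (by rw [hQ.w, ← Category.assoc, ← Category.assoc, ← hpb₂.w])
    have hfac : pullback.lift r₁ r₂ (hr₁.trans hr₂.symm) ≫ ν = hP.isoPullback.hom ≫ μ := by
      refine pullback.hom_ext ?_ ?_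
      · simp [μ, ν, hm₁]
      · simp [μ, ν, hm₂]
    haveI : IsImmersion (pullback.lift r₁ r₂ (hr₁.trans hr₂.symm) ≫ ν) := by rw [hfac]; infer_instance
    exact IsImmersion.of_comp _ ν
  have hm := RelVA16.isMapOf_thetaOf (B := C₁) hr₁ (Iso.refl ((Scheme.Modules.pullback r₁).obj C₁.O1))
  have hm' := RelVA16.isMapOf_thetaOf (B := C₂) hr₂ (Iso.refl ((Scheme.Modules.pullback r₂).obj C₂.O1))
  obtain ⟨B'⟩ := RelVA16.PB.exists_of_isQCoh (KFlatLib.isQCoh_tensor C₁.hE C₂.hE)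
  obtain ⟨r, hr⟩ := RelVA16.exists_isMapOf B' _
    (RelVA16.gen_mulTheta (hm.gen (B := C₁) _) (hm'.gen (B := C₂) _))
  have := RelVA16.isImmersion_mulPair C₁ C₂ hm hm' hr
  have := RelVA16.isClosedImmersion_of_isProper B' r hr.comp
  haveI := C₁.hE
  haveI := C₂.hE
  exact RelVA16.isProjective_of_closedImmersion_pb B'
    ((S2297.result _ _).2 (FittX.isFT_pullback q₁ B₁.hE hft₁) (FittX.isFT_pullback q₂ B₂.hE hft₂))
    r hr.comp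

end Groth.Agent.ProjCl17
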